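import Cfsg.Agent.SM.DQ
import Cfsg.Agent.Invol.Four

/-! An involution acting on a perfect group with cyclic fixed Sylow subgroup of order four:
the maximal class case. -/

set_option autoImplicit false
set_option linter.unusedSectionVars false

namespace CF.SM
open Subgroup Cfsg CF.BG CF.PG CF.Bender
open scoped commutatorElement

variable {G : Type*} [Group G] [Finite G]
variable {A B C D H K L M N P Q R S T U V W X Y : Subgroup G}
  {a b c d e g r s t u v w x y z z' : G}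

theorem rel_dvd_two (hc : c ∈ S) (h : ∀ b ∈ S, b * c ∈ M ∨ b ∈ M) : M.relIndex S ∣ 2 :=
  index_dvd_two_iff.2 ⟨⟨c, hc⟩, fun b => h b b.2⟩

theorem thompson2 (h : NoTwo Y) (hS : Syl 2 S Y) (hc : c ∈ S) (cov : ∀ b ∈ S, b * c ∈ M ∨ b ∈ M)
    {n : ℕ} (hord : ∀ y ∈ S, y ^ 2 ^ n = 1 → y ∈ M) (hx : x ∈ S) (o : orderOf x = 2 ^ (n + 1)) :
    ∃ g ∈ Y, g * x * g⁻¹ ∈ M := by
  rcases (Nat.dvd_prime Nat.prime_two).1 (rel_dvd_two hc cov) with e | e
  · exact ⟨1, one_mem _, by simpa using relIndex_eq_one.1 e hx⟩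
  · exact thompson' h hS e hord hx o

theorem zp_par (hb : b ∈ zpowers a) : b ∈ zpowers (a * a) ∨ b * a ∈ zpowers (a * a) := by
  obtain ⟨i, rfl⟩ := hb
  obtain ⟨j, rfl | rfl⟩ := Int.even_or_odd' i
  · exact .inl ⟨j, by simp only; rw [← pow_two, ← zpow_natCast, ← zpow_mul]; rfl⟩
  · exact .inr ⟨j + 1, by
      simp only
      rw [← pow_two, ← zpow_natCast, ← zpow_mul, ← zpow_add_one]
      congr 1
      push_cast
      ring⟩

theorem zp_sq (hb : b ∈ zpowers a) : b * b ∈ zpowers (a * a) := by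
  obtain ⟨i, rfl⟩ := hb
  exact ⟨i, by simp only; rw [(Commute.refl a).mul_zpow]⟩

theorem order_four (i : Iv (x * x)) : orderOf x = 2 ^ (1 + 1) :=
  orderOf_eq_prime_pow (by simpa [pow_two] using i.ne) (by
    rw [show 2 ^ (1 + 1) = 2 * 2 from rfl, pow_mul, pow_two, pow_two, i.sq])

theorem order_eight (i : Iv (x * x * (x * x))) : orderOf x = 2 ^ (2 + 1) :=
  orderOf_eq_prime_pow (by
    rw [show 2 ^ 2 = 2 * 2 from rfl, pow_mul, pow_two, pow_two]; exact i.ne) (by
    rw [show 2 ^ (2 + 1) = 2 * 2 * 2 from rfl, pow_mul, pow_mul, pow_two, pow_two, pow_two, i.sq])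

/-- the setting. -/
structure Z4 (A Y T : Subgroup G) (t r z : G) : Prop extends Ext A Y T t where
  tA : t ∉ A
  hr : r ∈ T ⊓ A
  r2 : r * r = z
  iz : Iv z
  rt : t * r = r * t
  cz : ∀ g ∈ T, g * z = z * g
  cent : ∀ s ∈ T ⊓ A, t * s = s * t → s = 1 ∨ s = z ∨ s = r ∨ s = r * z
  f0 : ∀ p ∈ A, ∀ q ∈ A, Iv p → Iv q → p * q = q * p → t * p = p * t → t * q = q * t → p = q

namespace Z4
variable (h : Z4 A Y T t r z)
include h

theorem hz : z ∈ T ⊓ A := h.r2 ▸ mul_mem h.hr h.hr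

theorem rz2 : r * z * (r * z) = z := by
  rw [mul_assoc, ← mul_assoc z, ← h.cz r h.hr.1, mul_assoc, h.iz.sq, mul_one, h.r2]

theorem cent2 (hs : s ∈ T ⊓ A) (c : t * s = s * t) (e : s * s = 1) : s = 1 ∨ s = z := by
  rcases h.cent s hs c with e' | e' | e' | e'
  · exact .inl e'
  · exact .inr e'
  · exact absurd (h.r2.symm.trans (e' ▸ e)) h.iz.ne
  · exact absurd (h.rz2.symm.trans (e' ▸ e)) h.iz.ne

theorem dq {n : ℕ} (q : DQ (T ⊓ A) T n a d z') (hs : s ∈ T ⊓ A) (i : Iv s) : s = z := by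
  obtain rfl : z' = z := (h.cent2 (zpowers_le.2 q.ha q.zm) (q.cz h.ht) q.iz.sq).resolve_left q.iz.ne
  have x := h.toExt
  by_contra sz
  have act : ∀ g ∈ T, g * d ≠ d * g → g * d * g⁻¹ = d * z' := fun g hg h' =>
    (q.four (q.na.conj_mem hg q.dm) (by
      rw [conj_mul, q.d2, q.cz hg, mul_inv_cancel_right])).resolve_left fun e =>
        h' (mul_inv_eq_iff_eq_mul.1 e)
  by_cases td : t * d = d * t
  · exact sz ((h.cent2 hs (dq_t x q x.ht x.t2 td hs i) i.sq).resolve_left i.ne)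
  have cd : ∀ g ∈ T, ∀ m ∈ zpowers a, m * m = z' → g * m = m * g → g * d = d * g := by
    intro g hg m hm e c
    rcases q.four hm e with rfl | rfl
    · exact c
    · rw [← mul_assoc, mul_assoc d, ← q.cz hg, ← mul_assoc] at c
      exact mul_right_cancel c
  have ra : r ∉ zpowers a := fun m => td (cd t x.ht r m h.r2 h.rt)
  have sa : s ∉ zpowers a := fun m => sz (cyc_iv m q.zm i q.iz)
  have rd : r * d ≠ d * r := fun e => by
    have := q.inv h.hr ra
    rw [e, mul_inv_cancel_right, q.dinv, left_eq_mul] at this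
    exact q.iz.ne this
  have out : ∀ y ∈ T ⊓ A, y ∉ zpowers a → y * s⁻¹ ∈ zpowers a := fun y hy m =>
    SR.mul_mem_idx q.ix.le hy (inv_mem hs) m (by rwa [inv_mem_iff])
  have sq : ∀ (k : ℤ) (c : G), s * a * s⁻¹ = a⁻¹ * c → c ∈ zpowers a →
      a ^ k * s * (a ^ k * s) = c ^ k := by
    intro k c e hc
    calc a ^ k * s * (a ^ k * s) = a ^ k * (s * a ^ k * s⁻¹) * (s * s) := by group
      _ = c ^ k := by
        rw [i.sq, mul_one, ← conj_zpow, e, Commute.mul_zpow (q.comm (inv_mem (mem_zpowers a)) hc),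
          inv_zpow, mul_inv_cancel_left]
  have sact : s * a * s⁻¹ = a⁻¹ * z' := by
    rcases q.act s hs sa with e | ⟨-, e⟩
    · exfalso
      obtain ⟨k, hk⟩ := out r h.hr ra
      have := sq k 1 (by rwa [mul_one]) (one_mem _)
      simp only at hk
      rw [hk, inv_mul_cancel_right, h.r2, one_zpow] at this
      exact q.iz.ne this
    · exact e
  have zN : z' ∈ zpowers (a * a) := q.d2 ▸ zp_sq q.dm
  have lN : zpowers (a * a) ≤ zpowers a := zpowers_le.2 (mul_mem (mem_zpowers a) (mem_zpowers a))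
  have nN : s ∈ 𝐍 (zpowers (a * a)) := (cyc_zpowers a).le_norm lN q.na.norm hs.1
  have mM : ∀ y, y ∈ zpowers (a * a) ⊔ zpowers s ↔ _ := fun y =>
    Invol.mem_sup_zpowers_iff nN (i.sq ▸ one_mem _)
  obtain ⟨g, hg, hm⟩ := thompson2 (M := zpowers (a * a) ⊔ zpowers s) (n := 1) x.nt x.sylS q.ha
    (fun y hy => by
      rw [mM, mM]
      by_cases m : y ∈ zpowers a
      · rcases zp_par m with e | e
        · exact .inr (.inl e)
        · exact .inl (.inl e)
      · rcases zp_par (out y hy m) with e | e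
        · exact .inr (.inr e)
        · refine .inl (.inr ?_)
          have : y * a * s⁻¹ = y * s⁻¹ * a * (a * a)⁻¹ * z' := by
            calc y * a * s⁻¹ = y * s⁻¹ * (s * a * s⁻¹) := by group
              _ = _ := by rw [sact]; group
          rw [this]
          exact mul_mem (mul_mem e (inv_mem (mem_zpowers _))) zN)
    (fun y hy e => by
      rw [mM]
      rw [pow_one, pow_two] at e
      by_cases m : y ∈ zpowers a
      · rcases q.uniq m e with rfl | rfl
        · exact .inl (one_mem _)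
        · exact .inl zN
      · right
        obtain ⟨k, hk⟩ := out y hy m
        have := sq k z' sact q.zm
        simp only at hk
        rw [hk, inv_mul_cancel_right, e] at this
        obtain ⟨j, rfl | rfl⟩ := Int.even_or_odd' k
        · exact ⟨j, by simp only; rw [← hk, ← pow_two, ← zpow_natCast, ← zpow_mul]; rfl⟩
        · rw [zpow_add_one, zpow_mul, zpow_ofNat, pow_two, q.iz.sq, one_zpow, one_mul] at this
          exact absurd this.symm q.iz.ne)
    h.hr (order_four (h.r2 ▸ q.iz))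
  set m := g * r * g⁻¹ with em
  have im : Iv (m * m) := by rw [em, conj_mul, h.r2]; exact q.iz.conj g
  have ma : m ∈ zpowers a := by
    rcases (mM m).1 hm with e | ⟨j, hj⟩
    · exact lN e
    · exfalso
      have := sq (2 * j) z' sact q.zm
      simp only at hj
      rw [zpow_mul, zpow_ofNat, pow_two, hj, inv_mul_cancel_right, zpow_mul, zpow_ofNat, pow_two,
        q.iz.sq, one_zpow] at this
      exact im.ne this
  have m2 : m * m = z' := cyc_iv (mul_mem ma ma) q.zm im q.iz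
  have mS : m ∈ T ⊓ A := zpowers_le.2 q.ha ma
  have dc : ∀ g ∈ T, g * d = d * g → g * m = m * g := by
    intro g hg c
    rcases q.four ma m2 with e | e
    · rwa [e]
    · rw [e, ← mul_assoc, c, mul_assoc, q.cz hg, mul_assoc]
  have syl : Syl 2 (T ⊓ 𝐂₁ m) (Y ⊓ 𝐂₁ m) := by
    obtain ⟨Q, hQ, l⟩ := exists_syl_le (inf_le_inf_right (𝐂₁ m) x.syl.le) x.syl.pi.inf_left
    by_cases e : Q ≤ T ⊓ 𝐂₁ m
    · rwa [le_antisymm l e]
    exfalso
    obtain ⟨y, hy, hy'⟩ := SetLike.not_le_iff_exists.1 e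
    have c1 := SR.two_mul_card l hy hy'
    have c2 : (𝐂₁ m).relIndex T ∣ 2 := rel_dvd_two h.hr.1 fun b hb => by
      by_cases c : b * d = d * b
      · exact .inr (mem_cent1.2 (dc b hb c))
      · refine .inl (mem_cent1.2 (dc _ (mul_mem hb h.hr.1) ?_))
        rw [← mul_inv_eq_iff_eq_mul]
        calc b * r * d * (b * r)⁻¹ = b * (r * d * r⁻¹) * b⁻¹ := by group
          _ = b * d * b⁻¹ * (b * z' * b⁻¹) := by rw [act r h.hr.1 rd]; group
          _ = d := by rw [act b hb c, q.cz hb, mul_inv_cancel_right, mul_assoc, q.iz.sq, mul_one]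
    have c3 := card_mul_relIndex (inf_le_left (a := T) (b := 𝐂₁ m))
    rw [inf_relIndex_left] at c3
    have c4 := Nat.le_of_dvd two_pos c2
    have hQ' : Syl 2 Q Y := x.syl.of_card_le (hQ.le.trans inf_le_left) hQ.pi (by nlinarith)
    obtain ⟨k, hk, e⟩ := hQ'.syl_conj x.syl
    have c5 : ∀ g ∈ T, g * (k * m * k⁻¹) = k * m * k⁻¹ * g := fun g hg => by
      rw [← mem_cent1, ← cj_cent1]
      exact cj_mono k (hQ.le.trans inf_le_right) (e ▸ hg)
    have m1 : k * m * k⁻¹ ∈ T ⊓ A :=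
      ⟨e ▸ conj_mem_cj.2 (l ⟨mS.1, self_mem_cent1 m⟩), x.nA.conj_mem hk mS.2⟩
    have i1 : Iv (k * m * k⁻¹ * (k * m * k⁻¹)) := by rw [conj_mul]; exact im.conj k
    have c6 := c5 d (q.na.le q.dm)
    rcases h.cent _ m1 (c5 t x.ht) with e | e | e | e <;> rw [e] at i1 c6
    · exact i1.ne (mul_one 1)
    · exact i1.ne q.iz.sq
    · exact rd c6.symm
    · rw [← mul_assoc, mul_assoc r, q.comm q.zm q.dm, ← mul_assoc] at c6
      exact rd (mul_right_cancel c6).symm
  obtain ⟨k, hk, -, l⟩ := extremal (x.nA.le hg) em.symm (R := zpowers t)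
    (zpowers_le.2 ⟨x.syl.le x.ht, mem_cent1.2 h.rt⟩) (x.syl.pi.le (zpowers_le.2 x.ht)) syl
  have hv := l (conj_mem_cj.2 (mem_zpowers t))
  have c := dq_t x q hv.1 (by rw [conj_mul, x.t2]; group) (cd _ hv.1 m ma m2 (mem_cent1.1 hv.2)) hs i
  have back : ∀ p, k * t * k⁻¹ * p = p * (k * t * k⁻¹) → t * (k⁻¹ * p * k) = k⁻¹ * p * k * t := by
    intro p e
    calc t * (k⁻¹ * p * k) = k⁻¹ * (k * t * k⁻¹ * p) * k := by group
      _ = _ := by rw [e]; group
  have := h.f0 _ (x.nA.conj_mem' hk hs.2) _ (x.nA.conj_mem' hk h.hz.2) (i.conj' k) (q.iz.conj' k)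
    (by
      calc k⁻¹ * s * k * (k⁻¹ * z' * k) = k⁻¹ * (s * z') * k := by group
        _ = _ := by rw [q.cz hs.1]; group) (back s c) (back z' (q.cz hv.1))
  exact sz (by simpa using this)

end Z4

end CF.SM
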